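import Cfsg.Agent.Classical.AltEight

/-!
`A₇` inside `GL₄(2)` and its action on the fifteen non-zero vectors.
-/

set_option autoImplicit false
set_option linter.style.haveILetI false

namespace Cfsg.Agent.A7GL4

open Subgroup MulAction

variable {F : Type*} [Field F] [Fintype F]

local notation "GF" => Matrix.GeneralLinearGroup (Fin 4) F

theorem eq_one_of_ne_zero (hF : Fintype.card F = 2) {x : F} (hx : x ≠ 0) : x = 1 := by
  classical
  have h := Finset.card_le_univ ({0, 1, x} : Finset F)
  rw [hF] at h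
  by_contra hne
  rw [Finset.card_insert_of_notMem (by simp [hx.symm]), Finset.card_insert_of_notMem (by simp [Ne.symm hne]),
    Finset.card_singleton] at h
  omega

theorem exists_subgroup (hF : Fintype.card F = 2) :
    ∃ H : Subgroup GF, Nonempty (H ≃* alternatingGroup (Fin 7)) := by
  obtain ⟨e⟩ := Classical.L34.psl_four_two hF
  have hZ : center (Matrix.SpecialLinearGroup (Fin 4) F) = ⊥ := by
    rw [eq_bot_iff]
    intro g hg
    obtain ⟨r, hr, hrg⟩ := Matrix.SpecialLinearGroup.mem_center_iff.mp hg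
    have hr1 : r = 1 := eq_one_of_ne_zero hF fun h => by simp [h] at hr
    refine Subgroup.mem_bot.mpr (Subtype.ext ?_)
    rw [← hrg, hr1, map_one, Matrix.SpecialLinearGroup.coe_one]
  let q : Matrix.SpecialLinearGroup (Fin 4) F →* Matrix.ProjectiveSpecialLinearGroup (Fin 4) F :=
    QuotientGroup.mk' _
  have hq : Function.Bijective q := ⟨(injective_iff_map_eq_one q).mpr fun x hx =>
    Subgroup.mem_bot.mp (hZ.le ((QuotientGroup.eq_one_iff x).mp hx)), QuotientGroup.mk'_surjective _⟩
  let ι : Fin 7 ≃ {i : Fin 8 // i ≠ Fin.last 7} := finSuccAboveEquiv (Fin.last 7)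
  let f : alternatingGroup (Fin 7) →* alternatingGroup (Fin 8) :=
    ((Equiv.Perm.extendDomainHom ι).comp (alternatingGroup (Fin 7)).subtype).codRestrict _ fun x => by
      rw [Equiv.Perm.mem_alternatingGroup]
      show Equiv.Perm.sign (Equiv.Perm.extendDomain (x : Equiv.Perm (Fin 7)) ι) = 1
      rw [Equiv.Perm.sign_extendDomain]
      exact Equiv.Perm.mem_alternatingGroup.mp x.2
  have hf : Function.Injective f := fun x y h => Subtype.ext
    (Equiv.Perm.extendDomainHom_injective ι (congrArg Subtype.val h))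
  let φ : alternatingGroup (Fin 7) →* GF :=
    Matrix.SpecialLinearGroup.toGL.comp
      ((MulEquiv.ofBijective q hq).symm.toMonoidHom.comp (e.symm.toMonoidHom.comp f))
  have hφ : Function.Injective φ :=
    Function.Injective.comp
      (g := Matrix.SpecialLinearGroup.toGL) (fun a b h => Subtype.ext (congrArg Units.val h))
      ((MulEquiv.ofBijective q hq).symm.injective.comp (e.symm.injective.comp hf))
  exact ⟨φ.range, ⟨(MonoidHom.ofInjective hφ).symm⟩⟩

/-- The non-zero vectors. -/
abbrev Pts (F : Type*) [Field F] : Type _ := {v : Fin 4 → F // v ≠ 0}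

instance act (H : Subgroup GF) : MulAction H (Pts F) where
  smul h v := ⟨(h.1 : Matrix (Fin 4) (Fin 4) F).mulVec v.1, fun e => v.2 (by
    have e' := congrArg ((h.1⁻¹ : GF) : Matrix (Fin 4) (Fin 4) F).mulVec e
    simpa [Matrix.mulVec_mulVec] using e')⟩
  one_smul v := Subtype.ext (by
    show ((1 : GF) : Matrix (Fin 4) (Fin 4) F).mulVec v.1 = v.1
    simp)
  mul_smul a b v := Subtype.ext (by
    show ((a.1 * b.1 : GF) : Matrix (Fin 4) (Fin 4) F).mulVec v.1 = _
    rw [Units.val_mul, ← Matrix.mulVec_mulVec]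
    rfl)

theorem smul_val (H : Subgroup GF) (h : H) (v : Pts F) :
    (h • v).1 = (h.1 : Matrix (Fin 4) (Fin 4) F).mulVec v.1 := rfl

theorem card_pts (hF : Fintype.card F = 2) : Nat.card (Pts F) = 15 := by
  classical
  rw [Nat.card_eq_fintype_card, Fintype.card_subtype_compl, Fintype.card_fun, Fintype.card_fin, hF,
    Fintype.card_subtype_eq]
  norm_num

theorem faithful (H : Subgroup GF) (h : H) (hh : ∀ v : Pts F, h • v = v) : h = 1 := by
  classical
  refine Subtype.ext (Units.ext (Matrix.ext fun i j => ?_))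
  have e := congrArg Subtype.val (hh ⟨Pi.single j 1, by simp [Pi.single_eq_zero_iff]⟩)
  rw [smul_val] at e
  have e' := congrFun e i
  simpa [Matrix.mulVec_single, Pi.single_apply, Matrix.one_apply, eq_comm] using e'

theorem exists_fixed_card (hF : Fintype.card F = 2) (H : Subgroup GF) (g : H) :
    ∃ d ≤ 4, Nat.card (fixedPoints (zpowers g) (Pts F)) + 1 = 2 ^ d := by
  classical
  let W : Submodule F (Fin 4 → F) := LinearMap.ker ((Matrix.mulVecLin (g.1 : Matrix (Fin 4) (Fin 4) F)) - 1)
  have hW : ∀ v, v ∈ W ↔ (g.1 : Matrix (Fin 4) (Fin 4) F).mulVec v = v := fun v => by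
    simp [W, sub_eq_zero]
  have hfix : ∀ v : Pts F, v ∈ fixedPoints (zpowers g) (Pts F) ↔ v.1 ∈ W := by
    intro v
    rw [hW]
    constructor
    · exact fun h => congrArg Subtype.val (h ⟨g, mem_zpowers g⟩)
    · rintro h ⟨x, hx⟩
      have hg : g ∈ stabilizer H v := Subtype.ext h
      exact (zpowers_le.mpr hg) hx
  let eq : fixedPoints (zpowers g) (Pts F) ≃ {w : W // w ≠ 0} :=
    { toFun := fun v => ⟨⟨v.1.1, (hfix v.1).mp v.2⟩, fun e => v.1.2 (congrArg Subtype.val e)⟩
      invFun := fun w => ⟨⟨w.1.1, fun e => w.2 (Subtype.ext e)⟩, (hfix _).mpr w.1.2⟩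
      left_inv := fun v => rfl
      right_inv := fun w => rfl }
  refine ⟨Module.finrank F W, (Submodule.finrank_le W).trans (by simp), ?_⟩
  rw [Nat.card_congr eq, Nat.card_eq_fintype_card, Fintype.card_subtype_compl,
    Fintype.card_subtype_eq, ← Nat.card_eq_fintype_card,
    Module.natCard_eq_pow_finrank (K := F) (V := W), Nat.card_eq_fintype_card, hF]
  have : 1 ≤ 2 ^ Module.finrank F W := Nat.one_le_two_pow
  omega

theorem two_transitive (hF : Fintype.card F = 2) (H : Subgroup GF)
    (e : H ≃* alternatingGroup (Fin 7)) (a b a' b' : Pts F) (hab : a ≠ b) (hab' : a' ≠ b') :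
    ∃ h : H, h • a = a' ∧ h • b = b' := by
  classical
  have hcard : Nat.card H = 2520 := by
    rw [Nat.card_congr e.toEquiv, nat_card_alternatingGroup]; simp [Nat.factorial]
  haveI : Fact (Nat.Prime 5) := ⟨by norm_num⟩
  haveI : Fact (Nat.Prime 7) := ⟨by norm_num⟩
  haveI : Fact (Nat.Prime 2) := ⟨Nat.prime_two⟩
  have hΩ := card_pts (F := F) hF
  obtain ⟨g5, hg5⟩ := exists_prime_orderOf_dvd_card' (G := H) 5 (by rw [hcard]; norm_num)
  obtain ⟨g7, hg7⟩ := exists_prime_orderOf_dvd_card' (G := H) 7 (by rw [hcard]; norm_num)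
  obtain ⟨g2, hg2⟩ := exists_prime_orderOf_dvd_card' (G := H) 2 (by rw [hcard]; norm_num)
  have hp5 : IsPGroup 5 (zpowers g5) := IsPGroup.of_card (n := 1) (by rw [Nat.card_zpowers, hg5, pow_one])
  have hp7 : IsPGroup 7 (zpowers g7) := IsPGroup.of_card (n := 1) (by rw [Nat.card_zpowers, hg7, pow_one])
  have hall : ∀ g : H, g ≠ 1 → ∀ d, Nat.card (fixedPoints (zpowers g) (Pts F)) + 1 = 2 ^ d → d ≤ 4 →
      d ≠ 4 := by
    rintro g hg d hd - rfl
    have hsub : fixedPoints (zpowers g) (Pts F) = Set.univ := by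
      refine Set.eq_of_subset_of_ncard_le (Set.subset_univ _) ?_
      rw [Set.ncard_univ, hΩ, ← Nat.card_coe_set_eq]
      omega
    exact hg (faithful H g fun v => (hsub.ge (Set.mem_univ v)) ⟨g, mem_zpowers g⟩)
  have hf5 : fixedPoints (zpowers g5) (Pts F) = ∅ := by
    obtain ⟨d, hd4, hd⟩ := exists_fixed_card hF H g5
    have hm := hp5.card_modEq_card_fixedPoints (Pts F)
    rw [hΩ] at hm
    have hd' := hall g5 (fun h => by simp [h] at hg5) d hd hd4
    have hd0 : Nat.card (fixedPoints (zpowers g5) (Pts F)) = 0 := by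
      unfold Nat.ModEq at hm
      interval_cases d <;> omega
    rwa [Nat.card_coe_set_eq, Set.ncard_eq_zero] at hd0
  have hf7 : Nat.card (fixedPoints (zpowers g7) (Pts F)) = 1 := by
    obtain ⟨d, hd4, hd⟩ := exists_fixed_card hF H g7
    have hm := hp7.card_modEq_card_fixedPoints (Pts F)
    rw [hΩ] at hm
    have hd' := hall g7 (fun h => by simp [h] at hg7) d hd hd4
    unfold Nat.ModEq at hm
    interval_cases d <;> omega
  obtain ⟨v₀, hv₀⟩ : ∃ v₀, fixedPoints (zpowers g7) (Pts F) = {v₀} := by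
    rw [Nat.card_coe_set_eq] at hf7
    exact Set.ncard_eq_one.mp hf7
  -- congruences on invariant sets
  have hmod : ∀ (p : ℕ) [Fact p.Prime] (g : H), IsPGroup p (zpowers g) → ∀ S : Set (Pts F),
      (∀ h : zpowers g, ∀ v ∈ S, h • v ∈ S) →
      S.ncard ≡ (S ∩ fixedPoints (zpowers g) (Pts F)).ncard [MOD p] := by
    intro p _ g hpg S hS
    let T : SubMulAction (zpowers g) (Pts F) :=
      { carrier := S
        smul_mem' := fun h v hv => hS h v hv }
    let e' : fixedPoints (zpowers g) T ≃ (S ∩ fixedPoints (zpowers g) (Pts F) : Set (Pts F)) :=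
      { toFun := fun v => ⟨v.1.1, v.1.2, fun h => congrArg Subtype.val (v.2 h)⟩
        invFun := fun v => ⟨⟨v.1, v.2.1⟩, fun h => Subtype.ext (v.2.2 h)⟩
        left_inv := fun v => rfl
        right_inv := fun v => rfl }
    have hm := hpg.card_modEq_card_fixedPoints T
    rw [Nat.card_congr e', Nat.card_coe_set_eq] at hm
    exact hm
  have htrans : ∀ v : Pts F, orbit H v = Set.univ := by
    suffices h0 : orbit H v₀ = Set.univ from fun v => by
      rw [← h0, orbit_eq_iff.mpr (h0.ge (Set.mem_univ v))]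
    by_contra hne
    obtain ⟨v, hv⟩ := (Set.ne_univ_iff_exists_notMem _).mp hne
    have hinv : ∀ (g : H) (h : zpowers g), ∀ w ∈ orbit H v, h • w ∈ orbit H v :=
      fun g h w hw => mem_orbit_of_mem_orbit (h : H) hw
    have h5 := hmod 5 g5 hp5 _ (hinv g5)
    rw [hf5, Set.inter_empty, Set.ncard_empty, Nat.modEq_zero_iff_dvd] at h5
    have h7 := hmod 7 g7 hp7 _ (hinv g7)
    rw [hv₀, Set.inter_singleton_eq_empty.mpr (fun hm : v₀ ∈ orbit H v =>
        hv (mem_orbit_symm.mp hm)),
      Set.ncard_empty, Nat.modEq_zero_iff_dvd] at h7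
    have hpos : 0 < (orbit H v).ncard := (Set.ncard_pos (Set.toFinite _)).mpr ⟨v, mem_orbit_self v⟩
    have hle : (orbit H v).ncard ≤ 15 := hΩ ▸ Set.ncard_univ (Pts F) ▸ Set.ncard_le_ncard (Set.subset_univ _)
    omega
  -- every orbit of a point stabiliser on the other points has size divisible by seven
  have horb : ∀ x y : Pts F, x ≠ y → 7 ∣ (orbit (stabilizer H x) y).ncard := by
    intro x y hxy
    obtain ⟨k, hk⟩ : v₀ ∈ orbit H x := (htrans x).ge (Set.mem_univ v₀)
    set g := k⁻¹ * g7 * k with hgdef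
    have hpg : IsPGroup 7 (zpowers g) := IsPGroup.of_card (n := 1) (by
      rw [Nat.card_zpowers, pow_one, hgdef,
        show k⁻¹ * g7 * k = MulAut.conj k⁻¹ g7 by simp, MulEquiv.orderOf_eq, hg7])
    have hgx : g ∈ stabilizer H x := by
      have h0 : g7 • v₀ = v₀ := (hv₀.ge (Set.mem_singleton v₀)) ⟨g7, mem_zpowers g7⟩
      have hk' : k • x = v₀ := hk
      show (k⁻¹ * g7 * k) • x = x
      rw [mul_smul, mul_smul, hk', h0, ← hk', inv_smul_smul]
    have hfixg : ∀ w : Pts F, w ∈ fixedPoints (zpowers g) (Pts F) → w = x := by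
      intro w hw
      have h1 : k • w ∈ fixedPoints (zpowers g7) (Pts F) := by
        rintro ⟨h, hh⟩
        have hg' : g7 ∈ stabilizer H (k • w) := by
          have h2 : (k⁻¹ * g7 * k) • w = w := hw ⟨g, mem_zpowers g⟩
          rw [mul_smul, mul_smul, inv_smul_eq_iff] at h2
          exact h2
        exact (zpowers_le.mpr hg') hh
      rw [hv₀, Set.mem_singleton_iff, ← show k • x = v₀ from hk] at h1
      exact smul_left_cancel k h1
    have h7 := hmod 7 g hpg (orbit (stabilizer H x) y) fun h w hw => by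
      have : (h : H) ∈ stabilizer H x := (zpowers_le.mpr hgx) h.2
      exact mem_orbit_of_mem_orbit (⟨h, this⟩ : stabilizer H x) hw
    rw [show orbit (stabilizer H x) y ∩ fixedPoints (zpowers g) (Pts F) = ∅ from ?_, Set.ncard_empty,
      Nat.modEq_zero_iff_dvd] at h7
    · exact h7
    rw [Set.eq_empty_iff_forall_notMem]
    rintro w ⟨⟨s, rfl⟩, hw2⟩
    have h2 : (s : H) • y = (s : H) • x := by
      rw [show (s : H) • x = x from s.2]; exact hfixg _ hw2
    exact hxy (smul_left_cancel _ h2).symm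
  -- an orbit of even length
  obtain ⟨x, hx⟩ : ∃ x : Pts F, g2 • x ≠ x := by
    by_contra hcon
    push Not at hcon
    have := faithful H g2 hcon
    simp [this] at hg2
  set y := g2 • x with hy
  have heven : 2 ∣ (orbit (stabilizer H x) y).ncard := by
    have hyx : g2 • y = x := by
      rw [hy, ← mul_smul, ← pow_two, ← hg2, pow_orderOf_eq_one, one_smul]
    set R := orbit H ((x, y) : Pts F × Pts F) with hR
    have hR2 : 2 ∣ R.ncard := by
      have hswap : ∀ z ∈ R, (z.2, z.1) ∈ R := by
        rintro _ ⟨h, rfl⟩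
        exact ⟨h * g2, Prod.ext (by show (h * g2) • x = h • y; rw [mul_smul, ← hy])
          (by show (h * g2) • y = h • x; rw [mul_smul, hyx])⟩
      have hne : ∀ z ∈ R, z.1 ≠ z.2 := by
        rintro _ ⟨h, rfl⟩ e'
        exact hx (smul_left_cancel h e').symm
      rw [Set.ncard_eq_toFinset_card', ← ZMod.natCast_eq_zero_iff, Finset.card_eq_sum_ones,
        Nat.cast_sum]
      refine Finset.sum_involution (fun z _ => (z.2, z.1)) (fun z _ => by rw [← Nat.cast_one, ← Nat.cast_add]; exact ZMod.natCast_self 2) (fun z hz _ => ?_)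
        (fun z hz => ?_) (fun z _ => rfl)
      · intro e'
        exact hne z (Set.mem_toFinset.mp hz) (congrArg Prod.fst e').symm
      · exact Set.mem_toFinset.mpr (hswap z (Set.mem_toFinset.mp hz))
    have h1 := card_orbit_mul_card_stabilizer_eq_card_group H ((x, y) : Pts F × Pts F)
    have h2 := card_orbit_mul_card_stabilizer_eq_card_group (stabilizer H x) y
    have h3 := card_orbit_mul_card_stabilizer_eq_card_group H x
    simp only [← Nat.card_eq_fintype_card, Nat.card_coe_set_eq] at h1 h2 h3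
    have hst : Nat.card (stabilizer H ((x, y) : Pts F × Pts F)) =
        Nat.card (stabilizer (stabilizer H x) y) := Nat.card_congr
      { toFun := fun h => ⟨⟨h.1, congrArg Prod.fst h.2⟩, congrArg Prod.snd h.2⟩
        invFun := fun h => ⟨h.1.1, Prod.ext h.1.2 h.2⟩
        left_inv := fun h => rfl
        right_inv := fun h => rfl }
    rw [hst] at h1
    rw [htrans x, Set.ncard_univ, hΩ] at h3
    have hpos : 0 < Nat.card (stabilizer (stabilizer H x) y) := Nat.card_pos
    have h4 : R.ncard = 15 * (orbit (stabilizer H x) y).ncard := by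
      refine Nat.eq_of_mul_eq_mul_right hpos ?_
      rw [show R.ncard * _ = _ from h1, mul_assoc, h2, h3]
    rw [h4] at hR2
    exact (Nat.Coprime.dvd_of_dvd_mul_left (by norm_num) hR2)
  have hx14 : ∀ z : Pts F, z ≠ x → z ∈ orbit (stabilizer H x) y := by
    intro z hz
    by_contra hzo
    have hd : Disjoint (orbit (stabilizer H x) y) (orbit (stabilizer H x) z) := by
      rw [Set.disjoint_left]
      intro w hw1 hw2
      exact hzo (orbit_eq_iff.mpr hw1 ▸ (orbit_eq_iff.mpr hw2).symm ▸ mem_orbit_self z)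
    have h7y := horb x y (Ne.symm hx)
    have h7z := horb x z (Ne.symm hz)
    have hsub : orbit (stabilizer H x) y ∪ orbit (stabilizer H x) z ⊆ {x}ᶜ := by
      rintro w (⟨s, rfl⟩ | ⟨s, rfl⟩) (hw : (s : H) • _ = x)
      · exact hx (smul_left_cancel (s : H) (hw.trans (show (s : H) • x = x from s.2).symm))
      · exact hz (smul_left_cancel (s : H) (hw.trans (show (s : H) • x = x from s.2).symm))
    have hc := Set.ncard_le_ncard hsub
    rw [Set.ncard_union_eq hd, Set.ncard_compl, Set.ncard_singleton, hΩ] at hc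
    have hpz : 0 < (orbit (stabilizer H x) z).ncard := (Set.ncard_pos (Set.toFinite _)).mpr ⟨z, mem_orbit_self z⟩
    have hpy : 0 < (orbit (stabilizer H x) y).ncard := (Set.ncard_pos (Set.toFinite _)).mpr ⟨y, mem_orbit_self y⟩
    omega
  -- conclusion
  obtain ⟨k, hk⟩ : a ∈ orbit H x := (htrans x).ge (Set.mem_univ a)
  obtain ⟨k', hk'⟩ : a' ∈ orbit H x := (htrans x).ge (Set.mem_univ a')
  have hk1 : k • x = a := hk
  have hk1' : k' • x = a' := hk'
  obtain ⟨s, hs⟩ := hx14 (k⁻¹ • b) fun h => hab (by rw [← hk1, ← h, smul_inv_smul])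
  obtain ⟨s', hs'⟩ := hx14 (k'⁻¹ • b') fun h => hab' (by rw [← hk1', ← h, smul_inv_smul])
  refine ⟨k' * s' * (s : H)⁻¹ * k⁻¹, ?_, ?_⟩
  · rw [mul_smul, mul_smul, mul_smul, ← hk1, inv_smul_smul,
      inv_smul_eq_iff.mpr (show (s : H) • x = x from s.2).symm, show (s' : H) • x = x from s'.2, hk1']
  · rw [mul_smul, mul_smul, mul_smul]
    have e1 : k⁻¹ • b = (s : H) • y := hs.symm
    have e2 : (s' : H) • y = k'⁻¹ • b' := hs'
    rw [e1, inv_smul_smul, e2, smul_inv_smul]

end Cfsg.Agent.A7GL4
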